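import Mathlib
import Groth.Agent.Lib.Helper6.HypSing.HSa

set_option autoImplicit false
set_option linter.unusedSectionVars false
set_option linter.unusedVariables false
set_option linter.unusedSimpArgs false
set_option linter.style.haveILetI false
set_option maxHeartbeats 400000

/-!
# A projective module modulo one element: fibres, kernel, free locus
-/

open TensorProduct

namespace Groth.Agent.Lib.Helper6.HypSing

section partII

variable {R : Type*} [CommRing R] {P : Type*} [AddCommGroup P] [Module R P] (v : P)
  (p : Ideal R) [p.IsPrime]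

/-- Base change to the residue field of the quotient map `P → P / R v`. -/
noncomputable abbrev fibQ : p.ResidueField ⊗[R] P →ₗ[p.ResidueField]
    p.ResidueField ⊗[R] (P ⧸ Submodule.span R {v}) :=
  (Submodule.span R {v}).mkQ.baseChange p.ResidueField

theorem fibQ_surjective : Function.Surjective (fibQ v p) :=
  LinearMap.lTensor_surjective _ (Submodule.mkQ_surjective _)

theorem fibQ_one_tmul : fibQ v p ((1 : p.ResidueField) ⊗ₜ[R] v) = 0 := by
  show (1 : p.ResidueField) ⊗ₜ[R] ((Submodule.span R {v}).mkQ v) = 0
  rw [Submodule.mkQ_apply,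
    (Submodule.Quotient.mk_eq_zero _).mpr (Submodule.mem_span_singleton_self v), tmul_zero]

theorem fibQ_injective (h0 : (1 : p.ResidueField) ⊗ₜ[R] v = 0) :
    Function.Injective (fibQ v p) := by
  have hex : Function.Exact
      (LinearMap.lTensor p.ResidueField (Submodule.span R {v}).subtype)
      (LinearMap.lTensor p.ResidueField (Submodule.span R {v}).mkQ) :=
    lTensor_exact _ (LinearMap.exact_subtype_mkQ _) (Submodule.mkQ_surjective _)
  have key : ∀ y : p.ResidueField ⊗[R] (Submodule.span R {v}),
      LinearMap.lTensor p.ResidueField (Submodule.span R {v}).subtype y = 0 := by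
    intro y
    induction y using TensorProduct.induction_on with
    | zero => simp
    | tmul c w =>
      obtain ⟨w, hw⟩ := w
      obtain ⟨r, rfl⟩ := Submodule.mem_span_singleton.mp hw
      show c ⊗ₜ[R] (r • v) = 0
      have h1 : c ⊗ₜ[R] v = c • ((1 : p.ResidueField) ⊗ₜ[R] v) := by
        rw [TensorProduct.smul_tmul', smul_eq_mul, mul_one]
      rw [tmul_smul, h1, h0, smul_zero, smul_zero]
    | add x y hx hy => rw [map_add, hx, hy, add_zero]
  rw [injective_iff_map_eq_zero]
  intro z hz
  obtain ⟨y, rfl⟩ := (hex z).mp hz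
  exact key y

theorem finrank_fiber_quot_eq (h0 : (1 : p.ResidueField) ⊗ₜ[R] v = 0) :
    Module.finrank p.ResidueField (p.ResidueField ⊗[R] (P ⧸ Submodule.span R {v})) =
      Module.finrank p.ResidueField (p.ResidueField ⊗[R] P) :=
  (LinearEquiv.ofBijective (fibQ v p)
    ⟨fibQ_injective v p h0, fibQ_surjective v p⟩).finrank_eq.symm

theorem finrank_fiber_quot_lt [Module.Finite R P] (h0 : (1 : p.ResidueField) ⊗ₜ[R] v ≠ 0) :
    Module.finrank p.ResidueField (p.ResidueField ⊗[R] (P ⧸ Submodule.span R {v})) <
      Module.finrank p.ResidueField (p.ResidueField ⊗[R] P) := by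
  have h1 := LinearMap.finrank_range_add_finrank_ker (fibQ v p)
  have h2 : LinearMap.range (fibQ v p) = ⊤ := LinearMap.range_eq_top.mpr (fibQ_surjective v p)
  rw [h2, finrank_top] at h1
  have h3 : 0 < Module.finrank p.ResidueField (LinearMap.ker (fibQ v p)) := by
    let w : LinearMap.ker (fibQ v p) :=
      ⟨(1 : p.ResidueField) ⊗ₜ[R] v, LinearMap.mem_ker.mpr (fibQ_one_tmul v p)⟩
    have hw : w ≠ 0 := fun h => h0 (congrArg Subtype.val h)
    exact (Module.finrank_pos_iff_exists_ne_zero (R := p.ResidueField)
      (M := LinearMap.ker (fibQ v p))).mpr ⟨w, hw⟩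
  omega

end partII

section partIII

variable {R : Type*} [CommRing R] {P : Type*} [AddCommGroup P] [Module R P]
  [Module.Finite R P] [Module.Projective R P] (v : P) (p : Ideal R) [p.IsPrime]

theorem exists_functional (h0 : (1 : p.ResidueField) ⊗ₜ[R] v ≠ 0) :
    ∃ l : P →ₗ[R] R, l v ∉ p := by
  classical
  obtain ⟨n, f, hf⟩ := Module.Finite.exists_fin' R P
  obtain ⟨i, hi⟩ := Module.projective_lifting_property f LinearMap.id hf
  by_contra hcon
  push Not at hcon
  apply h0
  have hv : v = ∑ j, (i v j) • f (fun k => if j = k then 1 else 0) := by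
    have h1 : f (i v) = v := LinearMap.congr_fun hi v
    rw [← LinearMap.pi_apply_eq_sum_univ f (i v), h1]
  rw [hv, tmul_sum]
  apply Finset.sum_eq_zero
  intro j _
  have hj : i v j ∈ p := hcon ((LinearMap.proj j) ∘ₗ i)
  rw [tmul_smul, TensorProduct.smul_tmul', Algebra.smul_def, mul_one,
    (Ideal.algebraMap_residueField_eq_zero).mpr hj, zero_tmul]

theorem mul_eq_zero_of_functional (l : P →ₗ[R] R) (r : R) (hr : r • v = 0) : l v * r = 0 := by
  have : l (r • v) = 0 := by rw [hr, map_zero]
  rw [map_smul, smul_eq_mul] at this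
  rw [mul_comm]
  exact this

theorem mem_freeLocus_quot (l : P →ₗ[R] R) (hl : l v ∉ p) :
    (⟨p, inferInstance⟩ : PrimeSpectrum R) ∈
      Module.freeLocus R (P ⧸ Submodule.span R {v}) := by
  rw [Module.mem_freeLocus_iff_tensor _ (Localization.AtPrime p)]
  let j : (P ⧸ Submodule.span R {v}) →ₗ[R] P :=
    (Submodule.span R {v}).liftQ (l v • LinearMap.id - (LinearMap.toSpanSingleton R P v) ∘ₗ l)
      (by
        rw [Submodule.span_le, Set.singleton_subset_iff]
        show _ ∈ LinearMap.ker _
        rw [LinearMap.mem_ker]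
        simp [LinearMap.toSpanSingleton_apply])
  have hqj : (Submodule.span R {v}).mkQ ∘ₗ j = l v • LinearMap.id := by
    apply Submodule.linearMap_qext
    apply LinearMap.ext
    intro x
    simp only [LinearMap.comp_apply, Submodule.mkQ_apply, LinearMap.smul_apply,
      LinearMap.id_apply, j, Submodule.liftQ_apply, LinearMap.sub_apply,
      LinearMap.toSpanSingleton_apply]
    rw [Submodule.Quotient.mk_sub, Submodule.Quotient.mk_smul, Submodule.Quotient.mk_smul,
      (Submodule.Quotient.mk_eq_zero _).mpr (Submodule.mem_span_singleton_self v), smul_zero,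
      sub_zero]
  have hu : IsUnit (algebraMap R (Localization.AtPrime p) (l v)) :=
    IsLocalization.map_units (Localization.AtPrime p) (⟨l v, hl⟩ : p.primeCompl)
  obtain ⟨u, hu'⟩ := hu
  let π' : Localization.AtPrime p ⊗[R] P →ₗ[Localization.AtPrime p]
      Localization.AtPrime p ⊗[R] (P ⧸ Submodule.span R {v}) :=
    (Submodule.span R {v}).mkQ.baseChange (Localization.AtPrime p)
  let i₀ : Localization.AtPrime p ⊗[R] (P ⧸ Submodule.span R {v}) →ₗ[Localization.AtPrime p]
      Localization.AtPrime p ⊗[R] P := j.baseChange (Localization.AtPrime p)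
  have hcomp : π' ∘ₗ i₀ = (algebraMap R (Localization.AtPrime p) (l v)) • LinearMap.id := by
    rw [← LinearMap.baseChange_comp, hqj, LinearMap.baseChange_smul, LinearMap.baseChange_id]
    apply LinearMap.ext
    intro z
    simp only [LinearMap.smul_apply, LinearMap.id_apply, algebraMap_smul]
  let i' : Localization.AtPrime p ⊗[R] (P ⧸ Submodule.span R {v}) →ₗ[Localization.AtPrime p]
      Localization.AtPrime p ⊗[R] P := (↑u⁻¹ : Localization.AtPrime p) • i₀
  have hsplit : π' ∘ₗ i' = LinearMap.id := by
    show π' ∘ₗ ((↑u⁻¹ : Localization.AtPrime p) • i₀) = LinearMap.id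
    rw [LinearMap.comp_smul, hcomp, ← hu', smul_smul, Units.inv_mul, one_smul]
  haveI : Module.Projective (Localization.AtPrime p)
      (Localization.AtPrime p ⊗[R] (P ⧸ Submodule.span R {v})) :=
    Module.Projective.of_split i' π' hsplit
  exact Module.free_of_flat_of_isLocalRing

theorem false_of_free (h0 : (1 : p.ResidueField) ⊗ₜ[R] v = 0)
    (hker : ∀ r : R, r • v = 0 → ∃ s ∉ p, s * r = 0)
    (hfree : (⟨p, inferInstance⟩ : PrimeSpectrum R) ∈
      Module.freeLocus R (P ⧸ Submodule.span R {v})) : False := by
  rw [Module.mem_freeLocus_iff_tensor _ (Localization.AtPrime p)] at hfree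
  haveI : Module.Free (Localization.AtPrime p)
      (Localization.AtPrime p ⊗[R] (P ⧸ Submodule.span R {v})) := hfree
  haveI : Module.Free (Localization.AtPrime p) (Localization.AtPrime p ⊗[R] P) :=
    Module.free_of_flat_of_isLocalRing
  have e1 : Module.finrank (Localization.AtPrime p) (Localization.AtPrime p ⊗[R] P) =
      Module.finrank p.ResidueField (p.ResidueField ⊗[R] P) := by
    have ha := (AlgebraTensorModule.cancelBaseChange R (Localization.AtPrime p) p.ResidueField
      p.ResidueField P).finrank_eq
    have hb : Module.finrank p.ResidueField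
        (p.ResidueField ⊗[Localization.AtPrime p] (Localization.AtPrime p ⊗[R] P)) =
        Module.finrank (Localization.AtPrime p) (Localization.AtPrime p ⊗[R] P) :=
      Module.finrank_baseChange
    rw [← ha, hb]
  have e2 : Module.finrank (Localization.AtPrime p)
      (Localization.AtPrime p ⊗[R] (P ⧸ Submodule.span R {v})) =
      Module.finrank p.ResidueField (p.ResidueField ⊗[R] (P ⧸ Submodule.span R {v})) := by
    have ha := (AlgebraTensorModule.cancelBaseChange R (Localization.AtPrime p) p.ResidueField
      p.ResidueField (P ⧸ Submodule.span R {v})).finrank_eq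
    have hb : Module.finrank p.ResidueField
        (p.ResidueField ⊗[Localization.AtPrime p]
          (Localization.AtPrime p ⊗[R] (P ⧸ Submodule.span R {v}))) =
        Module.finrank (Localization.AtPrime p)
          (Localization.AtPrime p ⊗[R] (P ⧸ Submodule.span R {v})) :=
      Module.finrank_baseChange
    rw [← ha, hb]
  have e3 := finrank_fiber_quot_eq v p h0
  have e4 : Module.finrank (Localization.AtPrime p) (Localization.AtPrime p ⊗[R] P) =
      Module.finrank (Localization.AtPrime p)
        (Localization.AtPrime p ⊗[R] (P ⧸ Submodule.span R {v})) := by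
    rw [e1, e2, e3]
  obtain ⟨e⟩ := FiniteDimensional.nonempty_linearEquiv_of_finrank_eq e4
  let q' : Localization.AtPrime p ⊗[R] P →ₗ[Localization.AtPrime p]
      Localization.AtPrime p ⊗[R] (P ⧸ Submodule.span R {v}) :=
    (Submodule.span R {v}).mkQ.baseChange (Localization.AtPrime p)
  have hq' : Function.Surjective q' :=
    LinearMap.lTensor_surjective _ (Submodule.mkQ_surjective _)
  have hinj : Function.Injective q' :=
    OrzechProperty.injective_of_surjective_of_injective e.toLinearMap q' e.injective hq'
  have h1 : (1 : Localization.AtPrime p) ⊗ₜ[R] v = 0 := by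
    apply hinj
    rw [map_zero]
    show (1 : Localization.AtPrime p) ⊗ₜ[R] ((Submodule.span R {v}).mkQ v) = 0
    rw [Submodule.mkQ_apply,
      (Submodule.Quotient.mk_eq_zero _).mpr (Submodule.mem_span_singleton_self v), tmul_zero]
  have h2 : ∃ t : p.primeCompl, t • v = 0 :=
    (IsLocalizedModule.eq_zero_iff p.primeCompl
      (TensorProduct.mk R (Localization.AtPrime p) P 1)).mp h1
  obtain ⟨t, ht⟩ := h2
  obtain ⟨s, hs, hst⟩ := hker t ht
  have hmem : s * (t : R) ∈ p := by
    rw [hst]
    exact p.zero_mem
  rcases Ideal.IsPrime.mem_or_mem inferInstance hmem with h | h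
  · exact hs h
  · exact t.2 h

end partIII

end Groth.Agent.Lib.Helper6.HypSing
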