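import Mathlib
import Groth.Agent.Lib.Helper6.HypSing.HSb

set_option autoImplicit false
set_option linter.unusedSectionVars false
set_option linter.unusedVariables false
set_option linter.unusedSimpArgs false
set_option linter.style.haveILetI false
set_option maxHeartbeats 400000

/-!
# Hypersurfaces in a smooth algebra: cotangent complex of `B → B/gB`
-/

universe u

open TensorProduct KaehlerDifferential

namespace Groth.Agent.Lib.Helper6.HypSing

section hyp

variable (A B R : Type u) [CommRing A] [CommRing B] [CommRing R]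
  [Algebra A B] [Algebra B R] [Algebra A R] [IsScalarTower A B R]
  (hsurj : Function.Surjective (algebraMap B R))

/-- The extension `B → R`. -/
@[reducible] noncomputable def hext : Algebra.Extension.{u} A R :=
  { Ring := B, σ := Function.surjInv hsurj, algebraMap_σ := Function.surjInv_eq hsurj }

variable (g : B) (hg : IsSMulRegular B g)
  (hker : RingHom.ker (algebraMap B R) = Ideal.span {g})

include hker in
theorem g_mem_ker : g ∈ (hext A B R hsurj).ker := by
  show g ∈ RingHom.ker (algebraMap B R)
  rw [hker]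
  exact Ideal.mem_span_singleton_self g

/-- The class of `g` in the conormal module. -/
noncomputable def e₀ : (hext A B R hsurj).Cotangent :=
  Algebra.Extension.Cotangent.mk ⟨g, g_mem_ker A B R hsurj g hker⟩

/-- The element `1 ⊗ dg`. -/
noncomputable def vv : R ⊗[B] Ω[B⁄A] := (1 : R) ⊗ₜ[B] KaehlerDifferential.D A B g

theorem cotangentComplex_e₀ :
    (hext A B R hsurj).cotangentComplex (e₀ A B R hsurj g hker) = vv A B R g := rfl

include hker in
theorem exists_smul_e₀ (x : (hext A B R hsurj).Cotangent) :
    ∃ r : R, x = r • e₀ A B R hsurj g hker := by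
  obtain ⟨⟨y, hy⟩, rfl⟩ := Algebra.Extension.Cotangent.mk_surjective x
  have hy' : y ∈ Ideal.span {g} := by
    rw [← hker]
    exact hy
  obtain ⟨b, rfl⟩ := Ideal.mem_span_singleton'.mp hy'
  refine ⟨algebraMap B R b, ?_⟩
  have h1 : (⟨b * g, hy⟩ : (hext A B R hsurj).ker) =
      b • (⟨g, g_mem_ker A B R hsurj g hker⟩ : (hext A B R hsurj).ker) :=
    Subtype.ext (by simp [smul_eq_mul])
  rw [h1, map_smul, algebraMap_smul]
  rfl

include hg hker in
theorem smul_e₀_eq_zero (r : R) (h : r • e₀ A B R hsurj g hker = 0) : r = 0 := by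
  obtain ⟨b, rfl⟩ := hsurj r
  rw [algebraMap_smul] at h
  have h1 : b • e₀ A B R hsurj g hker =
      Algebra.Extension.Cotangent.mk
        (b • (⟨g, g_mem_ker A B R hsurj g hker⟩ : (hext A B R hsurj).ker)) := by
    rw [map_smul]
    rfl
  rw [h1, Algebra.Extension.Cotangent.mk_eq_zero_iff] at h
  have h2 : b * g ∈ Ideal.span {g} ^ 2 := by
    have : (hext A B R hsurj).ker = Ideal.span {g} := hker
    rw [← this]
    exact h
  rw [Ideal.span_singleton_pow] at h2
  obtain ⟨c, hc⟩ := Ideal.mem_span_singleton'.mp h2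
  have h3 : b = c * g := by
    apply hg
    show g • b = g • (c * g)
    rw [smul_eq_mul, smul_eq_mul]
    linear_combination -hc
  have h4 : algebraMap B R g = 0 := by
    have := g_mem_ker A B R hsurj g hker
    exact this
  rw [h3, map_mul, h4, mul_zero]

include hker in
theorem range_cotangentComplex :
    LinearMap.range (hext A B R hsurj).cotangentComplex = Submodule.span R {vv A B R g} := by
  apply le_antisymm
  · rintro _ ⟨x, rfl⟩
    obtain ⟨r, rfl⟩ := exists_smul_e₀ A B R hsurj g hker x
    rw [map_smul, cotangentComplex_e₀]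
    exact Submodule.smul_mem _ _ (Submodule.mem_span_singleton_self _)
  · rw [Submodule.span_le, Set.singleton_subset_iff]
    exact ⟨e₀ A B R hsurj g hker, cotangentComplex_e₀ A B R hsurj g hker⟩

include hker in
/-- `Ω[R/A]` is the quotient of `R ⊗ Ω[B/A]` by `1 ⊗ dg`. -/
noncomputable def kaehlerEquiv :
    ((R ⊗[B] Ω[B⁄A]) ⧸ Submodule.span R {vv A B R g}) ≃ₗ[R] Ω[R⁄A] :=
  (Submodule.quotEquivOfEq _ _
    (by
      rw [← range_cotangentComplex A B R hsurj g hker]
      exact ((LinearMap.exact_iff).mp
        (hext A B R hsurj).exact_cotangentComplex_toKaehler).symm)).trans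
    ((hext A B R hsurj).toKaehler.quotKerEquivOfSurjective
      (hext A B R hsurj).toKaehler_surjective)

include hg hker in
theorem hker_of_notMem_support (p : PrimeSpectrum R)
    (hp : p ∉ Module.support R (hext A B R hsurj).H1Cotangent) (r : R)
    (hr : r • vv A B R g = 0) : ∃ s ∉ p.asIdeal, s * r = 0 := by
  rw [Module.notMem_support_iff'] at hp
  have hx : r • e₀ A B R hsurj g hker ∈ LinearMap.ker (hext A B R hsurj).cotangentComplex := by
    rw [LinearMap.mem_ker, map_smul, cotangentComplex_e₀, hr]
  obtain ⟨s, hs, hsm⟩ := hp (⟨r • e₀ A B R hsurj g hker, hx⟩ : (hext A B R hsurj).H1Cotangent)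
  refine ⟨s, hs, ?_⟩
  apply smul_e₀_eq_zero A B R hsurj g hg hker
  have h1 := congrArg Subtype.val hsm
  rw [mul_smul]
  exact h1

include hker in
theorem notMem_support_of_hker (p : PrimeSpectrum R)
    (h : ∀ r : R, r • vv A B R g = 0 → ∃ s ∉ p.asIdeal, s * r = 0) :
    p ∉ Module.support R (hext A B R hsurj).H1Cotangent := by
  rw [Module.notMem_support_iff']
  rintro ⟨x, hx⟩
  obtain ⟨r, rfl⟩ := exists_smul_e₀ A B R hsurj g hker x
  have hr : r • vv A B R g = 0 := by
    have := LinearMap.mem_ker.mp hx
    rw [map_smul, cotangentComplex_e₀] at this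
    exact this
  obtain ⟨s, hs, hsr⟩ := h r hr
  refine ⟨s, hs, ?_⟩
  apply Subtype.ext
  show s • (r • e₀ A B R hsurj g hker) = 0
  rw [← mul_smul, hsr, zero_smul]

end hyp

end Groth.Agent.Lib.Helper6.HypSing
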