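import Mathlib
import Groth.Agent.Lib.Helper6.HypSing.HSc

set_option autoImplicit false
set_option linter.unusedSectionVars false
set_option linter.unusedVariables false
set_option linter.unusedSimpArgs false
set_option linter.style.haveILetI false
set_option maxHeartbeats 400000

/-!
# Singular locus of a hypersurface in a smooth algebra
-/

universe u

open TensorProduct KaehlerDifferential

namespace Groth.Agent.Lib.Helper6.HypSing

theorem hypersurface_singular_locus (A B R : Type u) [CommRing A] [CommRing B] [CommRing R]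
    [Algebra A B] [Algebra B R] [Algebra A R] [IsScalarTower A B R] [Algebra.Smooth A B] (n : ℕ)
    (hn : ∀ p : PrimeSpectrum B, Module.rankAtStalk (Ω[B⁄A]) p = n)
    (g : B) (hg : IsSMulRegular B g) (hsurj : Function.Surjective (algebraMap B R))
    (hker : RingHom.ker (algebraMap B R) = Ideal.span {g}) (p : PrimeSpectrum R) :
    (⋀[R]^n (Ω[R⁄A])).annihilator ≤ p.asIdeal ↔ p ∉ Algebra.smoothLocus A R := by
  haveI : Algebra.FiniteType A R :=
    Algebra.FiniteType.of_surjective (IsScalarTower.toAlgHom A B R) hsurj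
  haveI : Module.Finite R Ω[R⁄A] := inferInstance
  haveI : Module.Finite R (R ⊗[B] Ω[B⁄A]) := inferInstance
  haveI : Module.Projective R (R ⊗[B] Ω[B⁄A]) := inferInstance
  have hrank : Module.finrank p.asIdeal.ResidueField
      (p.asIdeal.ResidueField ⊗[R] (R ⊗[B] Ω[B⁄A])) = n := by
    have h1 := Module.rankAtStalk_eq (M := R ⊗[B] Ω[B⁄A]) p
    have h2 := Module.rankAtStalk_baseChange (R := B) (M := Ω[B⁄A]) (S := R) p
    rw [hn] at h2
    rw [h2] at h1
    exact h1.symm
  have hJ : (⋀[R]^n (Ω[R⁄A])).annihilator ≤ p.asIdeal ↔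
      (1 : p.asIdeal.ResidueField) ⊗ₜ[R] vv A B R g = 0 := by
    rw [annihilator_le_iff p.asIdeal n,
      ← ((kaehlerEquiv A B R hsurj g hker).baseChange R p.asIdeal.ResidueField _ _).finrank_eq]
    constructor
    · intro h
      by_contra h0
      have := finrank_fiber_quot_lt (vv A B R g) p.asIdeal h0
      omega
    · intro h0
      rw [finrank_fiber_quot_eq (vv A B R g) p.asIdeal h0, hrank]
  have hS : p ∈ Algebra.smoothLocus A R ↔
      (∀ r : R, r • vv A B R g = 0 → ∃ s ∉ p.asIdeal, s * r = 0) ∧
      p ∈ Module.freeLocus R ((R ⊗[B] Ω[B⁄A]) ⧸ Submodule.span R {vv A B R g}) := by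
    rw [Algebra.smoothLocus_eq_compl_support_inter, Set.mem_inter_iff, Set.mem_compl_iff,
      ← ((hext A B R hsurj).equivH1CotangentOfFormallySmooth).support_eq,
      Module.freeLocus_congr (kaehlerEquiv A B R hsurj g hker).symm]
    constructor
    · rintro ⟨h1, h2⟩
      exact ⟨hker_of_notMem_support A B R hsurj g hg hker p h1, h2⟩
    · rintro ⟨h1, h2⟩
      exact ⟨notMem_support_of_hker A B R hsurj g hker p h1, h2⟩
  rw [hJ, hS]
  constructor
  · rintro h0 ⟨h1, h2⟩
    exact false_of_free (vv A B R g) p.asIdeal h0 h1 h2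
  · intro h
    by_contra h0
    obtain ⟨l, hl⟩ := exists_functional (vv A B R g) p.asIdeal h0
    exact h ⟨fun r hr => ⟨l (vv A B R g), hl, mul_eq_zero_of_functional (vv A B R g) l r hr⟩,
      mem_freeLocus_quot (vv A B R g) p.asIdeal l hl⟩

end Groth.Agent.Lib.Helper6.HypSing
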